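import Cfsg.Agent.Small.DegreeGraph.Orders.Forced

/-!
# No simple groups of order 1512

The principal 7-block forces an inverting involution to have a centraliser of order 8, but such an
involution commutes with an element of order 3. The search runs over multisets of degrees, with the
values bounded by the order of the centraliser.
-/

set_option autoImplicit false
set_option linter.unusedSectionVars false

namespace Cfsg.Lib.Small.DegreeGraph

open Cfsg.Lib.Chars Cfsg.Lib.Blocks Cfsg.Lib.Blocks.SmallOrder Cfsg.Lib.Blocks.SylowCount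
  Cfsg.Lib.Blocks.DegreeEquation
open scoped _root_.Classical

universe u

/-- All multisets of `k` values. -/
def allM (f : List ℤ → Bool) : List ℤ → ℕ → List ℤ → Bool
  | [], k, acc => decide (k ≠ 0) || f acc
  | z :: L, k, acc => (List.range (k + 1)).all fun j => allM f L (k - j) (List.replicate j z ++ acc)

/-- All lists of values with bounded squares. -/
def allRB (f : List (ℤ × ℤ) → Bool) : List ℤ → ℕ → List (ℤ × ℤ) → Bool
  | [], _, acc => f acc
  | z :: zs, b, acc =>
    let m := min z.natAbs (Nat.sqrt b)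
    (List.range (2 * m + 1)).all fun i =>
      decide ((z - ((i : ℤ) - m)) % 4 ≠ 0) ||
        allRB f zs (b - ((i : ℤ) - m).natAbs * ((i : ℤ) - m).natAbs) ((z, (i : ℤ) - m) :: acc)

theorem allM_spec {f : List ℤ → Bool} : ∀ (L : List ℤ) (k : ℕ) (acc : List ℤ), allM f L k acc = true →
    ∀ zs : List ℤ, (∀ z ∈ zs, z ∈ L) → zs.length = k → ∃ zs', zs'.Perm zs ∧ f (zs' ++ acc) = true
  | [], k, acc, h, zs, hL, hk => by
    obtain rfl : zs = [] := List.eq_nil_iff_forall_not_mem.2 fun z hz => by simpa using hL z hz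
    rw [allM, Bool.or_eq_true, decide_eq_true_eq] at h
    exact ⟨[], List.Perm.refl _, h.resolve_left (by simp [← hk])⟩
  | z :: L, k, acc, h, zs, hL, hk => by
    rw [allM, List.all_eq_true] at h
    have hlen : (zs.filter (· == z)).length + (zs.filter fun x => !(x == z)).length = zs.length := by
      rw [← List.length_append]
      exact (List.filter_append_perm (· == z) zs).length_eq
    obtain ⟨zs', hperm, hf⟩ := allM_spec L _ _ (h (zs.filter (· == z)).length (List.mem_range.2 (by omega)))
      (zs.filter fun x => !(x == z)) (fun x hx => by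
        rw [List.mem_filter] at hx
        exact (List.mem_cons.1 (hL x hx.1)).resolve_left (by simpa using hx.2))
      (by omega)
    refine ⟨zs' ++ List.replicate (zs.filter (· == z)).length z, ?_, by rwa [List.append_assoc]⟩
    have he : List.replicate (zs.filter (· == z)).length z = zs.filter (· == z) :=
      (List.eq_replicate_iff.2 ⟨rfl, fun x hx => by simpa using (List.mem_filter.1 hx).2⟩).symm
    rw [he]
    exact (List.perm_append_comm.trans (List.Perm.append_left _ hperm)).trans
      (List.filter_append_perm _ zs)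

theorem allRB_spec {f : List (ℤ × ℤ) → Bool} : ∀ (l : List (ℤ × ℤ)) (b : ℕ) (acc : List (ℤ × ℤ)),
    allRB f (l.map Prod.fst) b acc = true →
    (∀ q ∈ l, q.2.natAbs ≤ q.1.natAbs ∧ (4 : ℤ) ∣ q.1 - q.2) →
    (l.map fun q => q.2.natAbs * q.2.natAbs).sum ≤ b → f (l.reverse ++ acc) = true
  | [], b, acc, h, _, _ => by simpa [allRB] using h
  | (z, R) :: l, b, acc, h, hq, hb => by
    obtain ⟨hR, h4⟩ := hq (z, R) List.mem_cons_self
    simp only [List.map_cons, List.sum_cons] at hb hR h4
    simp only [List.map_cons, allRB, List.all_eq_true, Bool.or_eq_true, decide_eq_true_eq] at h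
    have hm : R.natAbs ≤ min z.natAbs (Nat.sqrt b) := le_min hR (Nat.le_sqrt.2 (by omega))
    set m := min z.natAbs (Nat.sqrt b)
    have hi : ((R + m).toNat : ℤ) - m = R := by omega
    have h1 := h (R + m).toNat (List.mem_range.2 (by omega))
    rw [hi] at h1
    have h2 := allRB_spec l _ _ (h1.resolve_left fun hn => hn (Int.emod_eq_zero_of_dvd h4))
      (fun q hq' => hq q (List.mem_cons_of_mem _ hq')) (by omega)
    simpa [List.reverse_cons, List.append_assoc] using h2

theorem exists_perm_map {l : List (ℤ × ℤ)} {zs : List ℤ} (h : zs.Perm (l.map Prod.fst)) :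
    ∃ l' : List (ℤ × ℤ), l'.Perm l ∧ l'.map Prod.fst = zs := by
  generalize hms : l.map Prod.fst = ms at h
  induction h generalizing l with
  | nil => exact ⟨l, List.Perm.refl _, hms⟩
  | cons x _ ih =>
    obtain ⟨q, t, rfl, hq, ht⟩ := List.map_eq_cons_iff.1 hms
    obtain ⟨t', hp, hm⟩ := ih ht
    exact ⟨q :: t', hp.cons q, by rw [List.map_cons, hq, hm]⟩
  | swap x y t =>
    obtain ⟨q, t1, rfl, hq, ht⟩ := List.map_eq_cons_iff.1 hms
    obtain ⟨r, t2, rfl, hr, ht2⟩ := List.map_eq_cons_iff.1 ht
    exact ⟨r :: q :: t2, List.Perm.swap _ _ _, by rw [List.map_cons, List.map_cons, hq, hr, ht2]⟩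
  | trans _ _ ih1 ih2 =>
    obtain ⟨l1, hp1, hm1⟩ := ih2 hms
    obtain ⟨l2, hp2, hm2⟩ := ih1 hm1
    exact ⟨l2, hp2.trans hp1, hm2⟩

theorem fracs_perm {l l' : List (ℤ × ℤ)} (h : l.Perm l') : fracs l = fracs l' := by
  induction h with
  | nil => rfl
  | cons q _ ih => obtain ⟨z, R⟩ := q; simp only [fracs, ih]
  | swap q r t =>
    obtain ⟨z, R⟩ := q
    obtain ⟨z', R'⟩ := r
    simp only [fracs]
    ext <;> dsimp only <;> ring
  | trans _ _ ih1 ih2 => exact ih1.trans ih2

/-- The test. -/
def check1512 : Bool :=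
  allM (fun zs => !(terms 7 216 1512 1 39 6).contains (1 + zs.sum) ||
    allRB (fun l => forceLeaf 7 1512 1 189 (1 + zs.sum) l) zs 167 []) (terms 7 216 1512 1 39 1) 5 []

theorem check1512_true : check1512 = true := by
  decide +kernel

theorem sums_1512 : (((sums (terms 7 72 1512 3 39 1) 1).all fun s =>
      !(terms 7 72 1512 3 39 2).contains (1 + s)) &&
    ((sums (terms 7 108 1512 2 39 1) 2).all fun s =>
      !(terms 7 108 1512 2 39 3).contains (1 + s))) = true := by
  decide +kernel

theorem counts_1512 : ∀ n < 217, 216 % n = 0 → n % 7 = 1 → n = 1 ∨ n = 8 ∨ n = 36 := by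
  decide +kernel

theorem small_factorial_1512 : ∀ i < 9, ¬ 2 * 1512 ∣ Nat.factorial i := by decide +kernel

theorem eq_of_check1512 {v : ℕ} {a : ℤ} {l : List (ℤ × ℤ)} {K : ℕ} (hv : v = 1) (hlen : l.length = 5)
    (hl : InvPairsAt 7 1512 v 1 216 6 a l K) (hK : 9 ≤ K) : K = 189 := by
  subst hv
  obtain ⟨hsum, ⟨ha, hA⟩, hq, hR, hKB, hE, hCs⟩ := hl
  have hS : 1512 ≤ 39 * 39 := by norm_num
  obtain ⟨zs, hperm, hf⟩ := allM_spec _ _ _ check1512_true (l.map Prod.fst) (fun z hz => by
    obtain ⟨q, hq', rfl⟩ := List.mem_map.1 hz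
    exact mem_terms hS (hq q hq').1.1 (hq q hq').1.2) (by rw [List.length_map, hlen])
  obtain ⟨l', hp, hm⟩ := exists_perm_map hperm
  simp only [List.append_nil, Bool.or_eq_true, Bool.not_eq_true'] at hf
  rw [← hm, (hp.map Prod.fst).sum_eq, hsum, List.contains_iff_mem.2 (mem_terms hS ha hA)] at hf
  simp only [Bool.true_eq_false, false_or] at hf
  have hb : (l.map fun q => q.2.natAbs * q.2.natAbs).sum ≤ 167 := by
    have hcast : (((l.map fun q => q.2.natAbs * q.2.natAbs).sum : ℕ) : ℤ) =
        (l.map fun q => q.2 * q.2).sum := by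
      rw [Nat.cast_list_sum, List.map_map]
      exact congrArg List.sum (List.map_congr_left fun q _ => by simp)
    have hnn : 0 ≤ (1 + (l.map Prod.snd).sum) * (1 + (l.map Prod.snd).sum) := mul_self_nonneg _
    push_cast at hCs
    generalize (l.map fun q => q.2 * q.2).sum = S at *
    have h9 : (1 + S + 1 * ((1 + (l.map Prod.snd).sum) * (1 + (l.map Prod.snd).sum))) * 9 ≤ 1512 :=
      le_trans (mul_le_mul_of_nonneg_left (by exact_mod_cast hK) (by omega)) hCs
    omega
  have h1 := allRB_spec l' 167 [] hf (fun q hq' => ⟨(hq q (hp.mem_iff.1 hq')).2.2,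
    (hq q (hp.mem_iff.1 hq')).2.1⟩) (by rw [(hp.map _).sum_eq]; exact hb)
  have hp' : (l'.reverse ++ []).Perm l := by
    rw [List.append_nil]
    exact (List.reverse_perm l').trans hp
  simp only [forceLeaf, invLeaf, Bool.or_eq_true, decide_eq_true_eq, fracs_perm hp',
    (hp'.map Prod.snd).sum_eq, (hp'.map fun q : ℤ × ℤ => q.2 * q.2).sum_eq] at h1
  set N := (fracs l).1 * a - (1 + (l.map Prod.snd).sum) * (1 + (l.map Prod.snd).sum) * (fracs l).2
  have hd : (fracs l).2 ≠ 0 := (fracs_spec l fun q hq' e => by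
    have := (hq q hq').1.1.2.1
    rw [e] at this
    simp at this).1
  have hW : ((7 : ℕ) : ℤ) * (1512 : ℕ) * ((fracs l).2 * a) ≠ 0 := mul_ne_zero (by norm_num)
    (mul_ne_zero hd fun e => by
      have := ha.2.1
      rw [e] at this
      simp at this)
  have hN : N ≠ 0 := fun e => hW (by rw [← hE, e, mul_zero])
  have hsq : Nat.sqrt ((7 : ℕ) * (1512 : ℕ) * ((fracs l).2 * a) / N : ℤ).natAbs = K := by
    rw [← hE, Int.mul_ediv_cancel _ hN, Int.natAbs_mul, Int.natAbs_natCast, Nat.sqrt_eq]
  rw [hsq] at h1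
  rcases h1 with ((h1 | h1) | h1) | h1
  · omega
  · exact absurd h1 hN
  · exact absurd ⟨hE, Nat.mod_eq_zero_of_dvd hKB, hCs⟩ h1
  · exact h1

variable {G : Type u} [Group G] [Finite G] [IsSimpleGroup G]

theorem card_ne_1512 : Nat.card G ≠ 1512 := by
  intro hG
  have : Fact (Nat.Prime 7) := ⟨by norm_num⟩
  have : Fact (Nat.Prime 3) := ⟨Nat.prime_three⟩
  have := Fintype.ofFinite G
  have hnc : ¬ ∀ a b : G, a * b = b * a :=
    Cfsg.Lib.Small.not_comm_of_isSimple (by rw [hG]; norm_num)
  obtain ⟨P⟩ : Nonempty (Sylow 7 G) := inferInstance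
  obtain ⟨C, hC, -, hidx', hm, he2⟩ := exists_core hnc (m := 216) (by rw [hG]) (by norm_num) P
  obtain ⟨h1, h2⟩ := Cfsg.Lib.Small.sylow_facts P (a := 1) (m := 216) (by rw [hG]; norm_num) (by norm_num)
  have hidx : idx C = 36 := by
    have hn1 := Cfsg.Lib.Small.card_sylow_ne_one (p := 7) hnc (by rw [hG]; norm_num)
    rw [hidx']
    rcases counts_1512 _ (Nat.lt_succ_of_le (Nat.le_of_dvd (by norm_num) h1))
      (Nat.mod_eq_zero_of_dvd h1) h2 with e | e | e
    · exact absurd e hn1
    · exfalso
      have hNi : (Subgroup.normalizer ((P : Subgroup G) : Set G)).index = 8 :=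
        P.card_eq_index_normalizer.symm.trans e
      have h3 := Cfsg.Lib.Small.two_mul_card_dvd_index_factorial hnc _
        (fun e' => by rw [e', Subgroup.index_top] at hNi; omega :
          Subgroup.normalizer ((P : Subgroup G) : Set G) ≠ ⊤)
      rw [hNi, hG] at h3
      exact small_factorial_1512 8 (by norm_num) h3
    · exact e
  have hN : Nat.card (Subgroup.normalizer (Subgroup.zpowers C.y : Set G)) = 7 * (eC C * Nat.card C.V) := by
    rw [Cfsg.Lib.Blocks.HalfDegree.card_normalizer_eq, card_H C]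
  rw [hidx] at hm
  obtain ⟨M, hM⟩ := exists_isPModular (Fact.out : Nat.Prime 7)
  obtain ⟨ν, δ, hD⟩ := C.exists_orbitData hM C.oneV
  have hev : eC C * Nat.card C.V = 6 := by omega
  have hele : eC C ≤ 6 := Nat.le_of_dvd (by norm_num) ⟨_, hev.symm⟩
  have htab := sums_1512
  rw [Bool.and_eq_true, List.all_eq_true, List.all_eq_true] at htab
  obtain ⟨he, hV⟩ : eC C = 6 ∧ Nat.card C.V = 1 := by
    obtain ⟨a, l, hlen, hsum, ha, hl⟩ := degree_equation hC hM hD
    have hS : 1512 ≤ 39 * 39 := by norm_num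
    rcases (show eC C = 2 ∨ eC C = 3 ∨ eC C = 4 ∨ eC C = 5 ∨ eC C = 6 by omega) with e | e | e | e | e <;>
      rw [e] at hev
    · exfalso
      rw [hG, hidx, e, show Nat.card C.V = 3 by omega] at ha hl
      have hmem := sum_mem_sums l fun z hz => mem_terms hS (hl z hz).1 (hl z hz).2
      rw [show l.length = 1 by omega] at hmem
      have h3 := htab.1 l.sum hmem
      simp only [Bool.not_eq_true', hsum] at h3
      have h4 := List.contains_iff_mem.2 (mem_terms hS ha.1 ha.2)
      push_cast at h4
      rw [h4] at h3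
      exact Bool.noConfusion h3
    · exfalso
      rw [hG, hidx, e, show Nat.card C.V = 2 by omega] at ha hl
      have hmem := sum_mem_sums l fun z hz => mem_terms hS (hl z hz).1 (hl z hz).2
      rw [show l.length = 2 by omega] at hmem
      have h3 := htab.2 l.sum hmem
      simp only [Bool.not_eq_true', hsum] at h3
      have h4 := List.contains_iff_mem.2 (mem_terms hS ha.1 ha.2)
      push_cast at h4
      rw [h4] at h3
      exact Bool.noConfusion h3
    · omega
    · omega
    · exact ⟨e, by omega⟩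
  obtain ⟨s, a, l, hlen, hss, hs1, hpairs, hl⟩ := exists_invPairsAt hC hM hD hV (by rw [he]; norm_num)
  rw [hG, hidx, he, hV] at hl
  rw [he] at hlen
  have hK9 : 9 ≤ Nat.card {x : G // IsConj s x} := by
    have h1 := Cfsg.Lib.Small.two_mul_card_dvd_index_factorial hnc (Subgroup.centralizer ({s} : Set G))
      (Cfsg.Lib.Small.centralizer_ne_top hnc hs1)
    rw [hG] at h1
    rw [card_isConj]
    by_contra hlt
    exact small_factorial_1512 _ (by omega) h1
  have hK := eq_of_check1512 rfl (by omega) hl hK9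
  have hm8 := card_isConj_mul (G := G) s
  rw [hK, hG] at hm8
  have hso : orderOf s = 2 := orderOf_eq_prime (by rw [pow_two, hss]) hs1
  obtain ⟨u, hsu, huo, huN⟩ := exists_mem_normalizer C hso (by rw [hpairs]; norm_num)
  rw [he, hV] at hN
  -- an involution of the complement commutes with an element of order three
  have hH : Nat.card C.H = 6 := by rw [card_H C, he, hV]
  have : Fact (Nat.Prime 2) := ⟨Nat.prime_two⟩
  obtain ⟨w, hw⟩ := exists_prime_orderOf_dvd_card' (G := C.H) 2 (by rw [hH]; norm_num)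
  obtain ⟨k, hk⟩ := exists_prime_orderOf_dvd_card' (G := C.H) 3 (by rw [hH]; norm_num)
  have hcomm : k * w = w * k := by
    refine (MonoidHom.ker_eq_bot_iff C.act).1 (Subgroup.eq_bot_of_card_eq _ hV) ?_
    rw [map_mul, map_mul, mul_comm]
  have hwo : orderOf (w : G) = 2 := (Subgroup.orderOf_coe w).trans hw
  have h8 : Nat.card (Subgroup.centralizer ({(w : G)} : Set G)) = 8 := by
    rw [← centralizer_eq_of_isConj
      (hsu.trans (isConj_of_twice_odd (m := 21) hN (by norm_num) huN (C.le_norm w.2) huo hwo))]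
    omega
  have := Subgroup.orderOf_dvd_natCard _
    (Subgroup.mem_centralizer_singleton_iff.2 (congrArg Subtype.val hcomm))
  rw [Subgroup.orderOf_coe, hk, h8] at this
  norm_num at this

end Cfsg.Lib.Small.DegreeGraph
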