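import Cfsg.Agent.Small.Toolkit
import Mathlib.GroupTheory.PGroup

/-!
# No simple groups of order 1800, 2700 or 3600
-/

set_option autoImplicit false

namespace Cfsg.Lib.Small.DegreeGraph

open Subgroup
open scoped Pointwise

universe u

theorem five_counts : ∀ n < 145, ∀ m0 ∈ [72, 108, 144], m0 % n = 0 → n % 5 = 1 → n ≠ 1 →
    n % 25 ≠ 1 ∧ (n = 6 ∨ 16 ∣ n ∨ n = 36) := by decide +kernel

theorem five_shape_table : ∀ n ∈ [6, 11, 16, 21, 26, 36, 54, 72, 81, 96, 108, 144], ∀ j < 25,
    ∀ m0 ∈ [72, 108, 144], (n % 5 = 1 ∧ m0 % (n * j) = 0 ∧ 10 ≤ m0 / (n * j)) →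
      n = 6 ∧ (j = 1 ∨ (j = 2 ∧ m0 = 144)) := by
  decide +kernel

theorem five_divisors : ∀ n < 145, ∀ m0 ∈ [72, 108, 144], (n % 5 = 1 ∧ n ≠ 1 ∧ m0 % n = 0) →
    n ∈ [6, 11, 16, 21, 26, 36, 54, 72, 81, 96, 108, 144] ∧ 6 ≤ n := by
  decide +kernel

theorem small_factorial_five : ∀ i < 10, ∀ m0 ∈ [72, 108, 144], ¬ 2 * (25 * m0) ∣ Nat.factorial i := by
  decide +kernel

theorem fixed_table : ∀ d < 13, ∀ k ∈ [6, 12], d % 5 = k % 5 → d ∣ k → 3 ∣ d → d = k := by decide +kernel

variable {G : Type u} [Group G] [Finite G]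

/-- A 5-group normalising a subgroup of order 6 or 12 centralises it. -/
theorem five_group_centralizes {P K : Subgroup G} (hP : IsPGroup 5 P)
    (hPK : P ≤ Subgroup.normalizer (K : Set G)) (hK : Nat.card K = 6 ∨ Nat.card K = 12) :
    K ≤ Subgroup.centralizer (P : Set G) := by
  classical
  have : Fact (Nat.Prime 5) := ⟨by norm_num⟩
  have : Fact (Nat.Prime 3) := ⟨Nat.prime_three⟩
  let act : MulDistribMulAction P K :=
    { smul := fun g n => ⟨(g : G) * n * (g : G)⁻¹, (mem_normalizer_iff.1 (hPK g.2) n).1 n.2⟩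
      one_smul := fun n => Subtype.ext (show ((1 : P) : G) * n * ((1 : P) : G)⁻¹ = n by simp)
      mul_smul := fun a b n => Subtype.ext (show ((a * b : P) : G) * n * ((a * b : P) : G)⁻¹ =
        (a : G) * ((b : G) * n * (b : G)⁻¹) * (a : G)⁻¹ by rw [Subgroup.coe_mul]; group)
      smul_mul := fun g m n => Subtype.ext (show (g : G) * ((m : G) * n) * (g : G)⁻¹ =
        (g : G) * m * (g : G)⁻¹ * ((g : G) * n * (g : G)⁻¹) by group)
      smul_one := fun g => Subtype.ext (show (g : G) * ((1 : K) : G) * (g : G)⁻¹ = ((1 : K) : G) by simp) }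
  have hfixd : ∀ n : K, n ∈ MulAction.fixedPoints P K ↔ (n : G) ∈ Subgroup.centralizer (P : Set G) := by
    intro n
    rw [MulAction.mem_fixedPoints, Subgroup.mem_centralizer_iff]
    exact ⟨fun h g hg => mul_inv_eq_iff_eq_mul.1 (congrArg Subtype.val (h ⟨g, hg⟩)),
      fun h g => Subtype.ext (mul_inv_eq_iff_eq_mul.2 (h g g.2))⟩
  set F := K ⊓ Subgroup.centralizer (P : Set G) with hF
  have hmod : Nat.card F % 5 = Nat.card K % 5 := by
    have h := hP.card_modEq_card_fixedPoints K
    rw [Nat.card_congr (α := MulAction.fixedPoints P K) (β := F)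
      { toFun := fun n => ⟨((n.1 : K) : G), n.1.2, (hfixd n.1).1 n.2⟩
        invFun := fun n => ⟨⟨n.1, n.2.1⟩, (hfixd _).2 n.2.2⟩
        left_inv := fun n => rfl
        right_inv := fun n => rfl }] at h
    exact h.symm
  have h3 : 3 ∣ Nat.card F := by
    obtain ⟨Q0⟩ : Nonempty (Sylow 3 K) := inferInstance
    have hm : Nat.card K = 3 ^ 1 * (Nat.card K / 3) ∧ ¬ 3 ∣ Nat.card K / 3 := by
      rcases hK with e | e <;> rw [e] <;> norm_num
    obtain ⟨h1, h2⟩ := Cfsg.Lib.Small.sylow_facts Q0 (a := 1) (m := Nat.card K / 3) hm.1 hm.2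
    have hlt : Nat.card (Sylow 3 K) < 5 := by
      have := Nat.le_of_dvd (by rcases hK with e | e <;> rw [e] <;> norm_num) h1
      rcases hK with e | e <;> omega
    have hpos : 0 < Nat.card (Sylow 3 K) := Nat.card_pos
    obtain ⟨Q, hQ⟩ := hP.nonempty_fixed_point_of_prime_not_dvd_card (Sylow 3 K)
      (fun h => by have := Nat.le_of_dvd hpos h; omega)
    have hQc : Nat.card (Q : Subgroup K) = 3 :=
      (Cfsg.Lib.Small.card_sylow_of_factor Q (a := 1) hm.1 hm.2).trans (pow_one 3)
    let actQ : MulAction P (Q : Subgroup K) :=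
      { smul := fun g n => ⟨g • (n : K), by
          have h : g • Q = Q := hQ g
          have h' : g • (n : K) ∈ ((g • Q : Sylow 3 K) : Subgroup K) := by
            rw [Sylow.pointwise_smul_def]
            exact Subgroup.smul_mem_pointwise_smul _ g _ n.2
          rwa [h] at h'⟩
        one_smul := fun n => Subtype.ext (one_smul P (n : K))
        mul_smul := fun a b n => Subtype.ext (mul_smul a b (n : K)) }
    have h5 := hP.card_modEq_card_fixedPoints (Q : Subgroup K)
    rw [hQc] at h5
    have hle : Nat.card (MulAction.fixedPoints P (Q : Subgroup K)) ≤ 3 :=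
      (Finite.card_subtype_le _).trans_eq hQc
    have hall : ∀ n : (Q : Subgroup K), n ∈ MulAction.fixedPoints P (Q : Subgroup K) := by
      intro n
      by_contra hn
      have : Nat.card (MulAction.fixedPoints P (Q : Subgroup K)) < 3 :=
        (Finite.card_subtype_lt hn).trans_eq hQc
      simp only [Nat.ModEq] at h5
      omega
    obtain ⟨q, hq⟩ := exists_prime_orderOf_dvd_card' (G := (Q : Subgroup K)) 3 (by rw [hQc])
    have hqF : ((q : K) : G) ∈ F :=
      ⟨(q : K).2, (hfixd _).1 fun g => congrArg Subtype.val (hall q g)⟩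
    rw [← hq, ← orderOf_coe q, ← orderOf_coe (q : K)]
    exact Subgroup.orderOf_dvd_natCard F hqF
  have hd : Nat.card F ∣ Nat.card K := card_dvd_of_le inf_le_left
  have hlt : Nat.card F < 13 := by
    have := Nat.le_of_dvd Nat.card_pos hd
    rcases hK with e | e <;> omega
  have heq := fixed_table _ hlt (Nat.card K) (by rcases hK with e | e <;> simp [e]) hmod hd h3
  intro x hx
  have : F = K := eq_of_le_of_card_ge inf_le_left heq.ge
  exact (this ▸ hx : x ∈ F).2

/-- No simple group has order 1800, 2700 or 3600. -/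
theorem card_ne_five_square [IsSimpleGroup G] {m0 : ℕ} (hm0 : m0 ∈ [72, 108, 144]) :
    Nat.card G ≠ 25 * m0 := by
  intro hG
  classical
  have : Fact (Nat.Prime 5) := ⟨by norm_num⟩
  have hm : ¬ 5 ∣ m0 := by
    simp only [List.mem_cons, List.not_mem_nil, or_false] at hm0
    rcases hm0 with rfl | rfl | rfl <;> norm_num
  have hm0pos : 0 < m0 := Nat.pos_of_ne_zero fun e => hm (e ▸ dvd_zero 5)
  have hle144 : m0 ≤ 144 := by
    simp only [List.mem_cons, List.not_mem_nil, or_false] at hm0
    omega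
  have hnc := Cfsg.Lib.Small.not_comm_of_isSimple (G := G) fun hpr => by
    rw [hG] at hpr
    exact absurd hpr (Nat.not_prime_mul (by norm_num) (by
      simp only [List.mem_cons, List.not_mem_nil, or_false] at hm0
      omega))
  have hdiv : 5 ∣ Nat.card G := by rw [hG]; exact dvd_mul_of_dvd_left (by norm_num) _
  obtain ⟨P⟩ : Nonempty (Sylow 5 G) := inferInstance
  have hG' : Nat.card G = 5 ^ 2 * m0 := by rw [hG]; norm_num
  have hP := Cfsg.Lib.Small.card_sylow_of_factor P hG' hm
  obtain ⟨hdvd, hmod⟩ := Cfsg.Lib.Small.sylow_facts P hG' hm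
  have hn1 := Cfsg.Lib.Small.card_sylow_ne_one (p := 5) hnc hdiv
  have hlt : Nat.card (Sylow 5 G) < 145 := by
    have := Nat.le_of_dvd hm0pos hdvd
    omega
  obtain ⟨h25, hncases⟩ := five_counts _ hlt m0 hm0 (Nat.mod_eq_zero_of_dvd hdvd) hmod hn1
  obtain ⟨R, hPR, hidx⟩ := Cfsg.Lib.Small.exists_inter_index_le (p := 5) 2
    (fun h => h25 (by simpa [Nat.ModEq] using h)) P
  set N := normalizer ((P : Subgroup G) : Set G) with hN
  set D := (P : Subgroup G) ⊓ R with hD
  have hPab : ∀ a ∈ (P : Subgroup G), ∀ b ∈ (P : Subgroup G), a * b = b * a := fun a ha b hb =>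
    congrArg Subtype.val ((IsPGroup.commGroupOfCardEqPrimeSq (p := 5) hP).mul_comm ⟨a, ha⟩ ⟨b, hb⟩)
  have hR : Nat.card (R : Subgroup G) = 5 ^ 2 := Cfsg.Lib.Small.card_sylow_of_factor R hG' hm
  have hRab : ∀ a ∈ (R : Subgroup G), ∀ b ∈ (R : Subgroup G), a * b = b * a := fun a ha b hb =>
    congrArg Subtype.val ((IsPGroup.commGroupOfCardEqPrimeSq (p := 5) hR).mul_comm ⟨a, ha⟩ ⟨b, hb⟩)
  have hDcard : Nat.card D = 5 := by
    have h1 := ((R : Subgroup G).subgroupOf (P : Subgroup G)).card_mul_index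
    rw [hP, show Nat.card ((R : Subgroup G).subgroupOf (P : Subgroup G)) = Nat.card D from by
      rw [hD, ← Subgroup.inf_subgroupOf_left]
      exact Nat.card_congr (subgroupOfEquivOfLe inf_le_left).toEquiv] at h1
    have hne : ((R : Subgroup G).subgroupOf (P : Subgroup G)).index ≠ 1 := fun e => by
      have := relIndex_eq_one.1 e
      exact hPR (Sylow.ext (eq_of_le_of_card_ge this (by rw [hR, hP])))
    have hd : ((R : Subgroup G).subgroupOf (P : Subgroup G)).index ∣ 5 ^ 2 := Dvd.intro_left _ h1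
    have h5 : ((R : Subgroup G).subgroupOf (P : Subgroup G)).index = 5 := by
      obtain ⟨k, hk, e⟩ := (Nat.dvd_prime_pow (by norm_num)).1 hd
      interval_cases k <;> simp_all
    rw [h5] at h1
    omega
  obtain ⟨d, hd⟩ := exists_prime_orderOf_dvd_card' (G := D) 5 (by rw [hDcard])
  have hdo : orderOf (d : G) = 5 := (orderOf_coe d).trans hd
  have hd1 : (d : G) ≠ 1 := fun e => by rw [e, orderOf_one] at hdo; omega
  set H := centralizer ({(d : G)} : Set G) with hH
  have hPH : (P : Subgroup G) ≤ H := fun a ha =>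
    mem_centralizer_singleton_iff.2 (hPab a ha _ d.2.1)
  have hRH : (R : Subgroup G) ≤ H := fun a ha =>
    mem_centralizer_singleton_iff.2 (hRab a ha _ d.2.2)
  have hHtop : H ≠ ⊤ := Cfsg.Lib.Small.centralizer_ne_top hnc hd1
  obtain ⟨n, hnmod, hHcard, hnN⟩ := Cfsg.Lib.Small.exists_card_eq_mul_inf_normalizer P hPH
  have hn1' : n ≠ 1 := fun e => hPR.symm (Sylow.ext (by
    have hRN : (R : Subgroup G) ≤ N := hRH.trans (hnN e)
    have hsup : IsPGroup 5 ((R : Subgroup G) ⊔ (P : Subgroup G) : Subgroup G) :=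
      IsPGroup.to_sup_of_normal_right' R.2 P.2 hRN
    exact (R.3 hsup le_sup_left).symm.trans (P.3 hsup le_sup_right)))
  obtain ⟨j, hj⟩ : 25 ∣ Nat.card (H ⊓ N : Subgroup G) := by
    have := card_dvd_of_le (le_inf hPH le_normalizer : (P : Subgroup G) ≤ H ⊓ N)
    rwa [hP] at this
  have hHd : Nat.card H ∣ Nat.card G := card_subgroup_dvd_card H
  rw [hHcard, hj, hG, show n * (25 * j) = 25 * (n * j) by ring] at hHd
  have hw : n * j ∣ m0 := Nat.dvd_of_mul_dvd_mul_left (by norm_num) hHd
  have hidxH : H.index = m0 / (n * j) := by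
    have h := H.index_mul_card
    rw [hHcard, hj, hG, show n * (25 * j) = 25 * (n * j) by ring] at h
    have hpos : 0 < n * j := Nat.pos_of_dvd_of_pos hw hm0pos
    rw [eq_comm, Nat.div_eq_iff_eq_mul_left hpos hw]
    linarith
  have h10 : 10 ≤ m0 / (n * j) := by
    rw [← hidxH]
    by_contra hlt10
    have h := Cfsg.Lib.Small.two_mul_card_dvd_index_factorial hnc H hHtop
    rw [hG] at h
    exact small_factorial_five _ (by omega) m0 hm0 h
  have hpos : 0 < n * j := Nat.pos_of_dvd_of_pos hw hm0pos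
  have hwle := Nat.le_of_dvd hm0pos hw
  obtain ⟨hnlist, hn6⟩ := five_divisors n
    (by have := Nat.le_mul_of_pos_right n (Nat.pos_of_mul_pos_left hpos); omega) m0 hm0
    ⟨hnmod, hn1', Nat.mod_eq_zero_of_dvd ((dvd_mul_right n j).trans hw)⟩
  obtain ⟨rfl, hjcases⟩ := five_shape_table n hnlist
    j (by have := Nat.mul_le_mul_right j hn6; omega) m0 hm0
    ⟨hnmod, Nat.mod_eq_zero_of_dvd hw, h10⟩
  by_cases hcen : H ⊓ N ≤ centralizer ((P : Subgroup G) : Set G)
  · -- a normal complement in the centraliser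
    let Q : Sylow 5 H := P.subtype hPH
    have hQN : normalizer ((Q : Subgroup H) : Set H) ≤ centralizer ((Q : Subgroup H) : Set H) := by
      intro x hx
      have hxN : (x : G) ∈ N := by
        have : x ∈ N.subgroupOf H := by
          rw [Subgroup.subgroupOf_normalizer_eq hPH]
          exact hx
        exact this
      rw [mem_centralizer_iff]
      intro y hy
      exact Subtype.ext (mem_centralizer_iff.1 (hcen ⟨x.2, hxN⟩) (y : G) hy)
    set K0 := (MonoidHom.transferSylow Q hQN).ker
    have hK0 : K0.IsComplement' (Q : Subgroup H) := MonoidHom.ker_transferSylow_isComplement' Q hQN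
    have hK0c : Nat.card K0 = 6 * j := by
      have := hK0.card_mul
      rw [show Nat.card (Q : Subgroup H) = 5 ^ 2 by
        rw [← hP]; exact Nat.card_congr (subgroupOfEquivOfLe hPH).toEquiv, hHcard, hj] at this
      omega
    let K : Subgroup G := K0.map H.subtype
    have hKc : Nat.card K = 6 ∨ Nat.card K = 12 := by
      rw [← Nat.card_congr (K0.equivMapOfInjective _ H.subtype_injective).toEquiv, hK0c]
      omega
    have hPK : (P : Subgroup G) ≤ normalizer (K : Set G) := fun a ha => by
      have hn' : (⟨a, hPH ha⟩ : H) ∈ normalizer (K0 : Set H) := by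
        rw [normalizer_eq_top]; trivial
      rw [mem_normalizer_iff]
      intro b
      constructor
      · rintro ⟨c, hc, rfl⟩
        exact ⟨_, (mem_normalizer_iff.1 hn' c).1 hc, rfl⟩
      · rintro ⟨c, hc, hcb⟩
        refine ⟨⟨a, hPH ha⟩⁻¹ * c * ⟨a, hPH ha⟩, ?_, ?_⟩
        · have := (mem_normalizer_iff.1 hn' (⟨a, hPH ha⟩⁻¹ * c * ⟨a, hPH ha⟩)).2
          exact this (by group; exact hc)
        · simp only [map_mul, map_inv]
          rw [hcb]
          simp [mul_assoc]
    have hKcen := five_group_centralizes P.2 hPK hKc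
    have hHle : H ≤ N := by
      intro x hx
      obtain ⟨⟨k, q⟩, hkq⟩ := hK0.2 ⟨x, hx⟩
      have hx' : x = ((k : H) : G) * ((q : H) : G) := (congrArg Subtype.val hkq).symm
      rw [hx']
      exact mul_mem (Subgroup.centralizer_le_normalizer _ (hKcen ⟨(k : H), k.2, rfl⟩))
        (le_normalizer (show ((q : H) : G) ∈ (P : Subgroup G) from q.2))
    have hcc : Nat.card H = Nat.card (H ⊓ N : Subgroup G) := by rw [inf_eq_left.2 hHle]
    have hposHN : 0 < Nat.card (H ⊓ N : Subgroup G) := Nat.card_pos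
    omega
  · -- the normaliser moves the intersection
    have hj2 : j = 2 ∧ m0 = 144 := by
      rcases hjcases with rfl | h
      · exfalso
        refine hcen fun x hx => ?_
        have heq : (P : Subgroup G) = H ⊓ N := eq_of_le_of_card_ge (le_inf hPH le_normalizer) (by rw [hj, hP]; norm_num)
        exact mem_centralizer_iff.2 fun y hy => hPab y hy x (heq ▸ hx)
      · exact h
    obtain ⟨rfl, rfl⟩ := hj2
    have hNc := Cfsg.Lib.Small.card_normalizer_mul P
    rw [← hN, hG] at hNc
    have hHN_N : 50 ∣ Nat.card N := by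
      have := card_dvd_of_le (inf_le_right : H ⊓ N ≤ N)
      rwa [hj] at this
    have hN100 : Nat.card N = 100 := by
      rcases hncases with e | e | e
      · exfalso
        have hidx6 : N.index = 6 := by rw [hN, ← e]; exact P.card_eq_index_normalizer.symm
        have h := Cfsg.Lib.Small.two_mul_card_dvd_index_factorial hnc N (fun e' => by
          rw [e', index_top] at hidx6; omega)
        rw [hidx6, hG] at h
        norm_num [Nat.factorial] at h
      · exfalso
        obtain ⟨c, hc⟩ := e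
        obtain ⟨c', hc'⟩ := hHN_N
        rw [hc, hc', show 50 * c' * (16 * c) = 800 * (c' * c) by ring] at hNc
        omega
      · rw [e] at hNc; omega
    set F := (P : Subgroup G) ⊓ centralizer ((H ⊓ N : Subgroup G) : Set G) with hF
    have hdF : (d : G) ∈ F := ⟨d.2.1, mem_centralizer_iff.2 fun y hy => mem_centralizer_singleton_iff.1 hy.1⟩
    have hFd : F = zpowers (d : G) := by
      refine (eq_of_le_of_card_ge (zpowers_le.2 hdF) ?_).symm
      rw [Nat.card_zpowers, hdo]
      have hdvdF : Nat.card F ∣ 5 ^ 2 := hP ▸ card_dvd_of_le inf_le_left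
      obtain ⟨k, hk, ek⟩ := (Nat.dvd_prime_pow (by norm_num)).1 hdvdF
      interval_cases k
      · simp [ek]
      · simp [ek]
      · exfalso
        refine hcen fun x hx => mem_centralizer_iff.2 fun y hy => ?_
        have hyF : y ∈ F := by
          have hle : F ≤ (P : Subgroup G) := inf_le_left
          rw [eq_of_le_of_card_ge hle (by rw [hP, ek])]; exact hy
        exact (mem_centralizer_iff.1 hyF.2 x hx).symm
    have hnorm : ((H ⊓ N).subgroupOf N).Normal := by
      refine Subgroup.normal_of_index_eq_two ?_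
      have h1 := ((H ⊓ N).subgroupOf N).card_mul_index
      rw [hN100, Nat.card_congr (subgroupOfEquivOfLe (inf_le_right : H ⊓ N ≤ N)).toEquiv, hj] at h1
      omega
    set M := normalizer (zpowers (d : G) : Set G) with hM
    have hNM : N ≤ M := fun g hg => by
      have key : ∀ g ∈ N, ∀ y ∈ F, g * y * g⁻¹ ∈ F := fun g hg y hy => by
        refine ⟨(mem_normalizer_iff.1 hg y).1 hy.1, mem_centralizer_iff.2 fun x hx => ?_⟩
        have hx' : g⁻¹ * x * g ∈ H ⊓ N := by
          have h2 := mem_subgroupOf.1 (hnorm.conj_mem ⟨x, hx.2⟩ hx (⟨g, hg⟩⁻¹))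
          simp only [Subgroup.coe_mul, Subgroup.coe_inv, inv_inv] at h2
          exact h2
        have h3 := mem_centralizer_iff.1 hy.2 _ hx'
        calc x * (g * y * g⁻¹) = g * ((g⁻¹ * x * g) * y) * g⁻¹ := by group
          _ = g * (y * (g⁻¹ * x * g)) * g⁻¹ := by rw [h3]
          _ = g * y * g⁻¹ * x := by group
      rw [hM, ← hFd, mem_normalizer_iff]
      refine fun y => ⟨key g hg y, fun hy => ?_⟩
      have := key g⁻¹ (inv_mem hg) _ hy
      rwa [show g⁻¹ * (g * y * g⁻¹) * g⁻¹⁻¹ = y by group] at this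
    have hHM : H ≤ M := by
      rw [hH, hM, ← centralizer_closure, ← zpowers_eq_closure]
      exact Subgroup.centralizer_le_normalizer _
    have hMtop : M ≠ ⊤ := fun e => by
      have hn := normalizer_eq_top_iff.1 e
      rcases hn.eq_bot_or_eq_top with h | h
      · exact hd1 (zpowers_eq_bot.1 h)
      · have := congrArg (fun S : Subgroup G => Nat.card S) h
        simp only [Nat.card_zpowers, card_top, hdo, hG] at this
        omega
    have hH300 : Nat.card H = 300 := by rw [hHcard, hj]
    obtain ⟨c, hc⟩ : 300 ∣ Nat.card M := hH300 ▸ card_dvd_of_le hHM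
    have hMidx := M.index_mul_card
    rw [hc, hG] at hMidx
    have hfac := Cfsg.Lib.Small.two_mul_card_dvd_index_factorial hnc M hMtop
    rw [hG] at hfac
    rcases Nat.lt_or_ge c 2 with hc2 | hc2
    · have hMH : H = M := eq_of_le_of_card_ge hHM (by
        rw [hc, hH300]
        interval_cases c <;> simp at hMidx ⊢)
      have := card_dvd_of_le (le_inf (hNM.trans hMH.ge) le_rfl : N ≤ H ⊓ N)
      rw [hN100, hj] at this
      norm_num at this
    · have hle6 : M.index ≤ 6 := by nlinarith
      exact small_factorial_five M.index (by omega) 144 (by simp) hfac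

end Cfsg.Lib.Small.DegreeGraph
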