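import Cfsg.Agent.S0496
import Cfsg.Agent.S0983
import Cfsg.Agent.Small.OrderSieve
import Cfsg.Agent.Small.DegreeGraph.Orders.FifteenTwelve
import Cfsg.Agent.Small.DegreeGraph.Orders.FiveSquare

/-!
# The orders of simple groups below 6000
-/

set_option autoImplicit false

namespace Cfsg.Lib.Small.DegreeGraph

universe u

set_option maxHeartbeats 4000000 in
theorem kill_table : ((List.range 2548).all fun i =>
      Cfsg.Lib.Small.Sieve.kill [(1104, 3), (1120, 5), (1140, 5), (1188, 11), (1200, 3), (1224, 17), (1232, 7), (1260, 5), (1320, 11), (1344, 7), (1400, 7), (1404, 13), (1440, 5), (1485, 5), (1520, 5), (1560, 3), (1584, 11), (1620, 5), (1656, 23), (1680, 5), (1716, 3), (1740, 3), (1755, 5), (1824, 3), (1836, 17), (1848, 7), (1872, 13), (1920, 3), (1980, 11), (2016, 7), (2040, 3), (2080, 5), (2100, 3), (2112, 3), (2184, 7), (2208, 3), (2240, 5), (2256, 3), (2268, 7), (2280, 5), (2376, 11), (2400, 3), (2457, 7), (2464, 7), (2640, 11), (2688, 7), (2760, 3), (2772, 7), (2800, 7), (2808, 13), (2880, 5), (2940, 5), (2976, 31), (3024,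 7), (3040, 5), (3060, 5), (3080, 5), (3120, 3), (3168, 11), (3240, 5), (3276, 13), (3300, 11), (3312, 23), (3432, 3), (3444, 3), (3480, 3), (3520, 11), (3540, 3), (3564, 11), (3640, 7)] [(1764, 7), (3528, 7)] (1093 + i) ||
      [1512, 1800, 2160, 2448, 2520, 2700, 3360, 3420, 3600].contains (1093 + i)) = true := by
  decide +kernel

variable {G : Type u} [Group G] [Finite G] [IsSimpleGroup G]

/-- The possible orders of a non-abelian simple group of order below 6000. -/
theorem card_mem_of_lt (hG : ¬ IsMulCommutative G) (hlt : Nat.card G < 6000) :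
    Nat.card G ∈ [60, 168, 360, 504, 660, 1092, 2448, 2520, 3420, 4080, 5616] := by
  have hnc : ¬ ∀ a b : G, a * b = b * a := fun hc => hG ⟨⟨hc⟩⟩
  simp only [List.mem_cons, List.not_mem_nil, or_false]
  rcases Nat.lt_or_ge (Nat.card G) 1093 with h | h
  · have := Cfsg.Agent.S0496.result hG (by omega)
    omega
  rcases Nat.lt_or_ge (Nat.card G) 3641 with h' | h'
  · have h1 := Cfsg.Lib.Small.Sieve.mem_of_all hnc kill_table h (by omega)
    simp only [List.mem_cons, List.not_mem_nil, or_false] at h1
    have e1 := card_ne_1512 (G := G)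
    have e2 := card_ne_five_square (G := G) (m0 := 72) (by simp)
    have e3 := card_ne_five_square (G := G) (m0 := 108) (by simp)
    have e4 := card_ne_five_square (G := G) (m0 := 144) (by simp)
    have e5 := card_ne_2160 (G := G)
    have e6 := card_ne_3360 (G := G)
    omega
  · have := Cfsg.Agent.S0983.result hG (by omega) (by omega)
    omega

end Cfsg.Lib.Small.DegreeGraph
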