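import Cfsg.Agent.Small.DegreeGraph.Core

/-!
# No simple groups of order 2160 or 3360
-/

set_option autoImplicit false
set_option linter.unusedSectionVars false

namespace Cfsg.Lib.Small.DegreeGraph

open Cfsg.Lib.Chars Cfsg.Lib.Blocks Cfsg.Lib.Blocks.SmallOrder Cfsg.Lib.Blocks.SylowCount
  Cfsg.Lib.Blocks.DegreeEquation
open scoped _root_.Classical

universe u

/-- The test forcing the size of the class of an inverting involution. -/
def forceLeaf (p B t K0 : ℕ) (a : ℤ) (l : List (ℤ × ℤ)) : Bool :=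
  let R := 1 + (l.map Prod.snd).sum
  let N := (fracs l).1 * a - R * R * (fracs l).2
  let W := (p : ℤ) * B * ((fracs l).2 * a)
  invLeaf p B t a l || decide (Nat.sqrt (W / N).natAbs = K0)

/-- The test over all lists. -/
def invForce (p B e K0 : ℕ) (A L : List ℤ) : Bool :=
  allZ L (fun zs => !A.contains (1 + zs.sum) ||
    allR (forceLeaf p B ((p - 1) / e) K0 (1 + zs.sum)) zs []) (e - 1) []

theorem eq_of_invForce {p B v D S e K0 K : ℕ} (hS : B ≤ S * S) (hB : 0 < B) (hp : 0 < p)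
    {r a : ℤ} {l : List (ℤ × ℤ)} (hlen : l.length + 1 = e)
    (hl : InvPairsAt p B v ((p - 1) / e) D r a l K)
    (h : invForce p B e K0 (terms p D B v S r) (terms p D B v S 1) = true) : K = K0 := by
  obtain ⟨hsum, ⟨ha, hA⟩, hq, hR, hK, hE, hC⟩ := hl
  rw [invForce, show e - 1 = (l.map Prod.fst).length by rw [List.length_map]; omega] at h
  have h1 := allZ_spec (l.map Prod.fst) [] h fun z hz => by
    obtain ⟨q, hq', rfl⟩ := List.mem_map.1 hz
    exact mem_terms hS (hq q hq').1.1 (hq q hq').1.2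
  simp only [List.append_nil, List.sum_reverse, hsum, Bool.or_eq_true, Bool.not_eq_true',
    List.contains_iff_mem.2 (mem_terms hS ha hA), Bool.true_eq_false, false_or] at h1
  rw [← List.map_reverse] at h1
  have h2 := allR_spec l.reverse [] h1
    fun q hq' => ⟨(hq q (List.mem_reverse.1 hq')).2.2, (hq q (List.mem_reverse.1 hq')).2.1⟩
  simp only [List.reverse_reverse, List.append_nil, forceLeaf, invLeaf, Bool.or_eq_true,
    decide_eq_true_eq] at h2
  set N := (fracs l).1 * a - (1 + (l.map Prod.snd).sum) * (1 + (l.map Prod.snd).sum) * (fracs l).2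
  have hd : (fracs l).2 ≠ 0 := (fracs_spec l fun q hq' e => by
    have := (hq q hq').1.1.2.1
    rw [e] at this
    simp at this).1
  have hW : (p : ℤ) * B * ((fracs l).2 * a) ≠ 0 := mul_ne_zero
    (mul_ne_zero (by omega) (by omega)) (mul_ne_zero hd fun e => by
      have := ha.2.1
      rw [e] at this
      simp at this)
  have hN : N ≠ 0 := fun e => hW (by rw [← hE, e, mul_zero])
  have hsq : Nat.sqrt ((p : ℤ) * B * ((fracs l).2 * a) / N).natAbs = K := by
    rw [← hE, Int.mul_ediv_cancel _ hN, Int.natAbs_mul, Int.natAbs_natCast, Nat.sqrt_eq]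
  rw [hsq] at h2
  rcases h2 with ((h2 | h2) | h2) | h2
  · omega
  · exact absurd h2 hN
  · exact absurd ⟨hE, Nat.mod_eq_zero_of_dvd hK, hC⟩ h2
  · exact h2

theorem force_2160 : invForce 5 2160 2 90 (terms 5 432 2160 1 47 2) (terms 5 432 2160 1 47 1) = true := by
  decide +kernel

theorem force_3360 : invForce 5 3360 2 105 (terms 5 672 3360 1 58 2) (terms 5 672 3360 1 58 1) = true := by
  decide +kernel

theorem counts_2160 : ∀ n < 433, 432 % n = 0 → n % 5 = 1 → n ≠ 1 → checkN 5 432 47 n = false → n = 216 := by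
  decide +kernel

theorem counts_3360 : ∀ n < 673, 672 % n = 0 → n % 5 = 1 → n ≠ 1 → checkN 5 672 58 n = false → n = 336 := by
  decide +kernel

theorem counts_3360_seven : ∀ n < 481, 480 % n = 0 → n % 7 = 1 → n ≠ 1 → checkN 7 480 58 n = false → n = 120 := by
  decide +kernel

variable {G : Type u} [Group G] [Finite G]

/-- In a group of twice odd order all involutions are conjugate. -/
theorem isConj_of_twice_odd {N : Subgroup G} {m : ℕ} (hN : Nat.card N = 2 * m) (hm : ¬ 2 ∣ m) {u v : G}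
    (hu : u ∈ N) (hv : v ∈ N) (hu2 : orderOf u = 2) (hv2 : orderOf v = 2) : IsConj u v := by
  have : Fact (Nat.Prime 2) := ⟨Nat.prime_two⟩
  have hsyl : ∀ x : N, orderOf x = 2 → ∃ S : Sylow 2 N, (S : Subgroup N) = Subgroup.zpowers x := by
    intro x hx
    obtain ⟨S, hS⟩ := (IsPGroup.of_card (n := 1) (show Nat.card (Subgroup.zpowers x) = 2 ^ 1 by
      rw [Nat.card_zpowers, hx, pow_one])).exists_le_sylow
    refine ⟨S, (Subgroup.eq_of_le_of_card_ge hS ?_).symm⟩
    rw [Nat.card_zpowers, hx, Cfsg.Lib.Small.card_sylow_of_factor S (a := 1) (by rw [hN, pow_one]) hm]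
    norm_num
  obtain ⟨S, hS⟩ := hsyl ⟨u, hu⟩ (by rwa [← Subgroup.orderOf_coe])
  obtain ⟨T, hT⟩ := hsyl ⟨v, hv⟩ (by rwa [← Subgroup.orderOf_coe])
  obtain ⟨g, hg⟩ := MulAction.exists_smul_eq N S T
  have h1 : g * ⟨u, hu⟩ * g⁻¹ ∈ (T : Subgroup N) := by
    rw [← hg, Sylow.coe_subgroup_smul]
    exact ⟨⟨u, hu⟩, hS.symm ▸ Subgroup.mem_zpowers _, rfl⟩
  rw [hT] at h1
  refine isConj_iff.2 ⟨(g : G), ?_⟩
  obtain ⟨k, hk⟩ := (isOfFinOrder_of_finite (⟨v, hv⟩ : N)).mem_powers_iff_mem_zpowers.2 h1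
  have hk' : v ^ k = (g : G) * u * (g : G)⁻¹ := by
    have := congrArg Subtype.val hk
    simpa using this
  have h2 : orderOf ((g : G) * u * (g : G)⁻¹) = 2 := by
    rw [show (g : G) * u * (g : G)⁻¹ = MulAut.conj (g : G) u from rfl, MulEquiv.orderOf_eq, hu2]
  rcases Nat.mod_two_eq_zero_or_one k with e | e
  · exfalso
    rw [← hk', ← pow_mod_orderOf, hv2, e, pow_zero, orderOf_one] at h2
    omega
  · rw [← hk', ← pow_mod_orderOf, hv2, e, pow_one]

variable [IsSimpleGroup G] {p : ℕ} [Fact p.Prime]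

/-- Pairs with product `y` give involutions inverting `y`. -/
theorem exists_mem_normalizer [Fintype G] (C : Cyc G p) {z : G} (hz : orderOf z = 2)
    (h : Nat.card {w : G × G // IsConj z w.1 ∧ IsConj z w.2 ∧ w.1 * w.2 = C.y} ≠ 0) :
    ∃ u, IsConj z u ∧ orderOf u = 2 ∧ u ∈ Subgroup.normalizer (Subgroup.zpowers C.y : Set G) := by
  obtain ⟨⟨⟨u, w⟩, hu, hw, huw⟩⟩ := (Nat.card_ne_zero.1 h).1
  have ho : ∀ {x : G}, IsConj z x → orderOf x = 2 := fun {x} hx => by
    obtain ⟨c, rfl⟩ := isConj_iff.1 hx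
    rw [show c * z * c⁻¹ = MulAut.conj c z from rfl, MulEquiv.orderOf_eq, hz]
  have hsq : ∀ {x : G}, IsConj z x → x * x = 1 := fun {x} hx => by
    rw [← pow_two, ← ho hx, pow_orderOf_eq_one]
  refine ⟨u, hu, ho hu, ?_⟩
  have hiu : u⁻¹ = u := inv_eq_of_mul_eq_one_left (hsq hu)
  have hiw : w⁻¹ = w := inv_eq_of_mul_eq_one_left (hsq hw)
  have h1 : u * C.y * u⁻¹ = C.y⁻¹ := by
    rw [← show u * w = C.y from huw, mul_inv_rev, hiw, hiu, ← mul_assoc, hsq hu, one_mul]
  have hn : u⁻¹ ∈ Subgroup.normalizer (Subgroup.zpowers C.y : Set G) :=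
    C.norm_of_mem (i := 1) (j := -1) one_ne_zero (by rw [inv_inv, C.yP_neg, C.yP_one, h1])
  rwa [hiu] at hn

/-- The setting with a given number of Sylow subgroups. -/
theorem exists_setting [Fintype G] {m S n : ℕ} (hnc : ¬ ∀ a b : G, a * b = b * a)
    (hcard : Nat.card G = p * m) (hpm : ¬ p ∣ m) (hS : p * m ≤ S * S)
    (hcounts : ∀ k < m + 1, m % k = 0 → k % p = 1 → k ≠ 1 → checkN p m S k = false → k = n) :
    ∃ (P : Sylow p G) (C : Cyc G p), Core C ∧ Subgroup.zpowers C.y = (P : Subgroup G) ∧ idx C = n ∧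
      m = n * (eC C * Nat.card C.V) ∧ 2 ≤ eC C ∧
      Nat.card (Subgroup.normalizer (Subgroup.zpowers C.y : Set G)) = p * (eC C * Nat.card C.V) := by
  obtain ⟨P⟩ : Nonempty (Sylow p G) := inferInstance
  obtain ⟨C, hC, hy, hidx, hm, he2⟩ := exists_core hnc hcard hpm P
  obtain ⟨h1, h2⟩ := Cfsg.Lib.Small.sylow_facts P (a := 1) (by rw [pow_one]; exact hcard) hpm
  have hm0 : 0 < m := Nat.pos_of_ne_zero fun e => hpm (e ▸ dvd_zero p)
  have h3 : Nat.card (Sylow p G) = n := hcounts _ (Nat.lt_succ_of_le (Nat.le_of_dvd hm0 h1))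
    (Nat.mod_eq_zero_of_dvd h1) h2
    (Cfsg.Lib.Small.card_sylow_ne_one hnc ⟨m, hcard⟩)
    (checkN_card_sylow (not_isCyclic_of_not_comm hnc) p m S hcard hpm hS)
  refine ⟨P, C, hC, hy, hidx.trans h3, ?_, he2, ?_⟩
  · rwa [hidx, h3] at hm
  · rw [Cfsg.Lib.Blocks.HalfDegree.card_normalizer_eq, card_H C]

/-- A central involution of a Sylow 2-subgroup. -/
theorem exists_central_involution {a m : ℕ} (hG : Nat.card G = 2 ^ a * m) (hm : ¬ 2 ∣ m) (ha : 0 < a) :
    ∃ z : G, orderOf z = 2 ∧ 2 ^ a ∣ Nat.card (Subgroup.centralizer ({z} : Set G)) := by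
  have : Fact (Nat.Prime 2) := ⟨Nat.prime_two⟩
  obtain ⟨S⟩ : Nonempty (Sylow 2 G) := inferInstance
  have hS := Cfsg.Lib.Small.card_sylow_of_factor S hG hm
  have hne : (S : Subgroup G) ≠ ⊥ := fun e => by
    rw [e, Subgroup.card_bot] at hS
    have : 2 ∣ (1 : ℕ) := hS ▸ dvd_pow_self 2 ha.ne'
    norm_num at this
  obtain ⟨z, hzS, hz, hzc⟩ : ∃ z : G, z ∈ (S : Subgroup G) ∧ orderOf z = 2 ∧
      ∀ x ∈ (S : Subgroup G), x * z = z * x := by
    have : Nontrivial (S : Subgroup G) := (Subgroup.nontrivial_iff_ne_bot _).2 hne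
    have hnt := S.2.center_nontrivial
    obtain ⟨k, hk⟩ := IsPGroup.iff_card.1 (S.2.to_subgroup (Subgroup.center (S : Subgroup G)))
    have hdvd : 2 ∣ Nat.card (Subgroup.center (S : Subgroup G)) := by
      rw [hk]
      refine dvd_pow_self 2 fun e => ?_
      rw [e, pow_zero] at hk
      have := Finite.one_lt_card_iff_nontrivial.2 hnt
      omega
    obtain ⟨c, hc⟩ := exists_prime_orderOf_dvd_card' 2 hdvd
    exact ⟨((c : (S : Subgroup G)) : G), (c : (S : Subgroup G)).2,
      by rw [Subgroup.orderOf_coe, Subgroup.orderOf_coe, hc],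
      fun x hx => congrArg Subtype.val (Subgroup.mem_center_iff.1 c.2 ⟨x, hx⟩)⟩
  refine ⟨z, hz, hS ▸ Subgroup.card_dvd_of_le fun x hx => ?_⟩
  exact Subgroup.mem_centralizer_singleton_iff.2 (hzc x hx)

omit [IsSimpleGroup G] in
theorem centralizer_eq_of_isConj {z u : G} (h : IsConj z u) :
    Nat.card (Subgroup.centralizer ({z} : Set G)) = Nat.card (Subgroup.centralizer ({u} : Set G)) := by
  have h1 := card_isConj_mul (G := G) z
  have h2 := card_isConj_mul (G := G) u
  have h3 : Nat.card {x : G // IsConj z x} = Nat.card {x : G // IsConj u x} :=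
    Nat.card_congr (Equiv.subtypeEquivRight fun x => ⟨fun k => h.symm.trans k, fun k => h.trans k⟩)
  rw [h3] at h1
  exact Nat.eq_of_mul_eq_mul_left (card_isConj_pos u) (h1.trans h2.symm)

theorem card_ne_2160 : Nat.card G ≠ 2160 := by
  intro hG
  have : Fact (Nat.Prime 5) := ⟨by norm_num⟩
  have := Fintype.ofFinite G
  have hnc : ¬ ∀ a b : G, a * b = b * a :=
    Cfsg.Lib.Small.not_comm_of_isSimple (by rw [hG]; norm_num)
  obtain ⟨P, C, hC, -, hidx, hm, he2, hN⟩ := exists_setting (p := 5) (m := 432) (S := 47) (n := 216) hnc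
    (by rw [hG]) (by norm_num) (by norm_num) counts_2160
  have hev : eC C * Nat.card C.V = 2 := by omega
  have he : eC C = 2 := by have := Nat.le_of_dvd (by norm_num) ⟨_, hev.symm⟩; omega
  have hV : Nat.card C.V = 1 := by rw [he] at hev; omega
  obtain ⟨M, hM⟩ := exists_isPModular (Fact.out : Nat.Prime 5)
  obtain ⟨ν, δ, hD⟩ := C.exists_orbitData hM C.oneV
  obtain ⟨s, a, l, hlen, hss, hs1, hpairs, hl⟩ := exists_invPairsAt hC hM hD hV (by rw [he])
  rw [hG, hidx, he, hV] at hl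
  rw [he] at hlen
  have hK := eq_of_invForce (S := 47) (by norm_num) (by norm_num) (by norm_num) hlen hl force_2160
  have hms := card_isConj_mul (G := G) s
  rw [hK, hG] at hms
  have hso : orderOf s = 2 := orderOf_eq_prime (by rw [pow_two, hss]) hs1
  obtain ⟨u, hsu, huo, huN⟩ := exists_mem_normalizer C hso (by rw [hpairs]; norm_num)
  obtain ⟨z, hzo, hz16⟩ := exists_central_involution (G := G) (a := 4) (m := 135) (by rw [hG]; norm_num)
    (by norm_num) (by norm_num)
  obtain ⟨χ, b, hE, -⟩ := exists_eqTwo hC hM hD (by norm_num) he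
  have hne := hE.pairs_ne_zero hV (by rw [← pow_two, ← hzo, pow_orderOf_eq_one])
    (fun e => by rw [e, orderOf_one] at hzo; omega)
  obtain ⟨v, hzv, hvo, hvN⟩ := exists_mem_normalizer C hzo hne
  rw [he, hV] at hN
  have hc := centralizer_eq_of_isConj
    (hsu.trans ((isConj_of_twice_odd (m := 5) hN (by norm_num) huN hvN huo hvo).trans hzv.symm))
  rw [← hc, show Nat.card (Subgroup.centralizer ({s} : Set G)) = 24 by omega] at hz16
  norm_num at hz16

theorem card_ne_3360 : Nat.card G ≠ 3360 := by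
  intro hG
  have : Fact (Nat.Prime 5) := ⟨by norm_num⟩
  have : Fact (Nat.Prime 7) := ⟨by norm_num⟩
  have : Fact (Nat.Prime 2) := ⟨Nat.prime_two⟩
  have := Fintype.ofFinite G
  have hnc : ¬ ∀ a b : G, a * b = b * a :=
    Cfsg.Lib.Small.not_comm_of_isSimple (by rw [hG]; norm_num)
  obtain ⟨P, C, hC, -, hidx, hm, he2, hN⟩ := exists_setting (p := 5) (m := 672) (S := 58) (n := 336) hnc
    (by rw [hG]) (by norm_num) (by norm_num) counts_3360
  have hev : eC C * Nat.card C.V = 2 := by omega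
  have he : eC C = 2 := by have := Nat.le_of_dvd (by norm_num) ⟨_, hev.symm⟩; omega
  have hV : Nat.card C.V = 1 := by rw [he] at hev; omega
  obtain ⟨M, hM⟩ := exists_isPModular (Fact.out : Nat.Prime 5)
  obtain ⟨ν, δ, hD⟩ := C.exists_orbitData hM C.oneV
  obtain ⟨s, a, l, hlen, hss, hs1, hpairs, hl⟩ := exists_invPairsAt hC hM hD hV (by rw [he])
  rw [hG, hidx, he, hV] at hl
  rw [he] at hlen
  have hK := eq_of_invForce (S := 58) (by norm_num) (by norm_num) (by norm_num) hlen hl force_3360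
  have hms := card_isConj_mul (G := G) s
  rw [hK, hG] at hms
  have hso : orderOf s = 2 := orderOf_eq_prime (by rw [pow_two, hss]) hs1
  obtain ⟨u, hsu, huo, huN⟩ := exists_mem_normalizer C hso (by rw [hpairs]; norm_num)
  -- an involution centralising a subgroup of order seven
  obtain ⟨P7, C7, hC7, -, hidx7, hm7, he27, hN7⟩ := exists_setting (p := 7) (m := 480) (S := 58) (n := 120) hnc
    (by rw [hG]) (by norm_num) (by norm_num) counts_3360_seven
  have hev7 : eC C7 * Nat.card C7.V = 4 := by omega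
  have he7 : eC C7 = 2 := by
    have h1 : eC C7 ∣ Nat.gcd 4 6 := Nat.dvd_gcd ⟨_, hev7.symm⟩ (eC_dvd C7)
    have := Nat.le_of_dvd (by norm_num) h1
    norm_num at this
    omega
  obtain ⟨w, hw⟩ := exists_prime_orderOf_dvd_card' (G := C7.V) 2 (by rw [he7] at hev7; omega)
  set z : G := ((w : C7.H) : G) with hz
  have hzo : orderOf z = 2 := by rw [hz, Subgroup.orderOf_coe, Subgroup.orderOf_coe, hw]
  have h7 : 7 ∣ Nat.card (Subgroup.centralizer ({z} : Set G)) := by
    rw [← C7.order]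
    refine Subgroup.orderOf_dvd_natCard _ (Subgroup.mem_centralizer_singleton_iff.2 ?_)
    have := C7.commute_V w 1
    rw [C7.yP_one] at this
    exact this.eq.symm
  obtain ⟨χ, b, hE, -⟩ := exists_eqTwo hC hM hD (by norm_num) he
  have hne := hE.pairs_ne_zero hV (by rw [← pow_two, ← hzo, pow_orderOf_eq_one])
    (fun e => by rw [e, orderOf_one] at hzo; omega)
  obtain ⟨v, hzv, hvo, hvN⟩ := exists_mem_normalizer C hzo hne
  rw [he, hV] at hN
  have hc := centralizer_eq_of_isConj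
    (hsu.trans ((isConj_of_twice_odd (m := 5) hN (by norm_num) huN hvN huo hvo).trans hzv.symm))
  rw [← hc, show Nat.card (Subgroup.centralizer ({s} : Set G)) = 32 by omega] at h7
  norm_num at h7

end Cfsg.Lib.Small.DegreeGraph
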